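import Groth.Agent.H29RR.Slope
import Groth.Agent.H25Par.EulerMono
import Groth.Agent.H12Pic.AlgEquivEuler
import Groth.Agent.H10Coh.SheafHom.Pullback
import Groth.Agent.H10Coh.SheafHom.Flat
import Groth.Agent.LeadBC.GenBC.Semicont
import Groth.Agent.LeadBC.Gamma
import Groth.Agent.LeadBC.Chart
import Groth.Agent.H22Alg.KPullLam
import Groth.Prelude
import Mathlib.AlgebraicGeometry.AlgClosed.Basic

/-!
# Separatedness of families of stable bundles on a curve
-/

set_option autoImplicit false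
set_option linter.style.haveILetI false

universe u

open CategoryTheory CategoryTheory.Limits AlgebraicGeometry TopologicalSpace

noncomputable section

namespace Groth.Agent.H7Stable

attribute [local instance 10000] H10Coh.hasSheafifyAb H10Coh.hasWeakSheafifyAb H10Coh.hasExtAb H10Coh.enoughInjAb

variable (k : Type u) [Field k] {X : Scheme.{u}} [X.Over (Spec (CommRingCat.of k))]
  [IsProper (X ↘ Spec (CommRingCat.of k))]

/-- A stable bundle is semistable. -/
theorem semistable_of_stable [IsIntegral X] (hdim : topologicalKrullDim X ≤ 1) {n : ℕ} {E : X.Modules}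
    (hE : FlatMod.IsFinLocFreeOfRank n E) (hst : H29RR.StableBundle k X E n) :
    H29RR.SemistableBundle k X E n := by
  intro G s i hi hs hG
  haveI : IsLocallyNoetherian X := LocallyOfFiniteType.isLocallyNoetherian (X ↘ Spec (CommRingCat.of k))
  rcases (H25Par.rank_le_of_mono (genericPoint X) hG hE i).lt_or_eq with hlt | rfl
  · exact (hst G s i hi hs hlt hG).le
  · refine mul_le_mul_of_nonneg_right ?_ (by positivity)
    have := H25Par.euler_le_of_mono (k := k) hdim hG hE i
    simp only [Curv2.deg]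
    linarith

variable {T : Scheme.{u}} (q : T ⟶ Spec (CommRingCat.of k))

theorem isPullback_slice (t : Spec (CommRingCat.of k) ⟶ T) (ht : t ≫ q = 𝟙 _) :
    IsPullback (Pic13.sliceAt k X q t ht) (X ↘ Spec (CommRingCat.of k))
      (pullback.snd (X ↘ Spec (CommRingCat.of k)) q) t := by
  refine IsPullback.of_right ?_ (pullback.lift_snd _ _ _) (IsPullback.of_hasPullback _ q).flip.flip
  rw [ht, show Pic13.sliceAt k X q t ht ≫ pullback.fst _ q = 𝟙 X from pullback.lift_fst _ _ _]
  exact IsPullback.of_horiz_isIso ⟨by simp⟩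

/-- The rank of `H^0` of the fibres of a sheaf of homomorphisms sees the nonzero morphisms. -/
theorem fiberRank_hom_pos_iff [IsAlgClosed k] [LocallyOfFiniteType q] {E E' : (Pic13.prodK k X q).Modules}
    (hE : FlatMod.IsFinLocFree E) (hE' : FlatMod.IsFinLocFree E') (t : Spec (CommRingCat.of k) ⟶ T)
    (ht : t ≫ q = 𝟙 _) :
    1 ≤ CohIII.fiberRank (pullback.snd (X ↘ Spec (CommRingCat.of k)) q) (RefHull.homSh E E') 0 (t.base default) ↔
      ∃ φ : Pic13.fibreMod k X q t ht E ⟶ Pic13.fibreMod k X q t ht E', φ ≠ 0 := by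
  haveI : IsLocallyNoetherian T := LocallyOfFiniteType.isLocallyNoetherian q
  let f := pullback.snd (X ↘ Spec (CommRingCat.of k)) q
  haveI : IsLocallyNoetherian (Pic13.prodK k X q) := LocallyOfFiniteType.isLocallyNoetherian f
  haveI : Flat f := by
    haveI : Flat (X ↘ Spec (CommRingCat.of k)) := inferInstance
    exact MorphismProperty.pullback_snd _ _ inferInstance
  haveI : IsLocallyNoetherian X := LocallyOfFiniteType.isLocallyNoetherian (X ↘ Spec (CommRingCat.of k))
  let H := RefHull.homSh E E'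
  have hHf : FlatMod.IsFinLocFree H := H10Coh.SheafHom.isFinLocFree_homSh hE hE'
  have hHc : Coh.IsCoh H := H16Derived.KFlat.Stalk.isCoh_of_isFinLocFree hHf
  haveI : H.IsQuasicoherent := hHc.1
  haveI : E.IsQuasicoherent := H8Props.FinLocFree.isQCoh_of_isFinLocFree E hE
  haveI : E'.IsQuasicoherent := H8Props.FinLocFree.isQCoh_of_isFinLocFree E' hE'
  have hfl : FlatMod.IsFlatOver f H := H10Coh.SheafHom.isFlatOver_of_isFinLocFree f H hHf
  let y := t.base default
  obtain ⟨V, hV, hy, -⟩ := exists_isAffineOpen_mem_and_subset (U := (⊤ : T.Opens)) (x := y) trivial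
  obtain ⟨ι, hι, U, hU, ⟨m⟩⟩ := LeadBC.exists_chart_model (f := f) (hV := hV) hHc hfl
  haveI := hι
  let j := Pic13.sliceAt k X q t ht
  have hr : Module.finrank k (Coh.HH X ((Scheme.Modules.pullback j).obj H) 0) = CohIII.fiberRank f H 0 y :=
    (m.finrank_bc_chart hU (K := k) j t (isPullback_slice k q t ht) hy
      (fun z => congrArg t.base (Subsingleton.elim z default)) _ (Iso.refl _) 0).trans
      (m.fiberRank_chart hU hy 0).symm
  rw [show CohIII.fiberRank (pullback.snd (X ↘ Spec (CommRingCat.of k)) q) (RefHull.homSh E E') 0 (t.base default) =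
    Module.finrank k (Coh.HH X ((Scheme.Modules.pullback j).obj H) 0) from hr.symm]
  haveI : Module.Finite k (Coh.HH X ((Scheme.Modules.pullback j).obj H) 0) :=
    H10Coh.finite_HH_proper k X _ (H17.ConsProp.isCoh_pullback j hHc) 0
  haveI : IsClosedImmersion t := by
    have hp := congrArg Subtype.val ((pointEquivClosedPoint q).symm_apply_apply ⟨t, ht⟩)
    let c := pointEquivClosedPoint q ⟨t, ht⟩
    have hc : IsClosedImmersion (T.fromSpecResidueField (c : T)) := isClosed_singleton_iff_isClosedImmersion.1 c.2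
    change _ = t at hp
    rw [← hp]
    exact inferInstanceAs (IsClosedImmersion (Spec.map (residueFieldIsoBase q (c : T) c.2).hom ≫ T.fromSpecResidueField (c : T)))
  haveI : IsClosedImmersion j := MorphismProperty.of_isPullback (isPullback_slice k q t ht).flip ‹IsClosedImmersion t›
  obtain ⟨c, -⟩ := H10Coh.SheafHom.exists_pullIso j (F := E) (G := E') hE
  let b : Γ((Scheme.Modules.pullback j).obj H, ⊤) ≃
      Γ(RefHull.homSh ((Scheme.Modules.pullback j).obj E) ((Scheme.Modules.pullback j).obj E'), ⊤) :=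
    Equiv.ofBijective _ (ConcreteCategory.bijective_of_isIso (c.hom.app ⊤))
  let a : ((Scheme.Modules.pullback j).obj E ⟶ (Scheme.Modules.pullback j).obj E') ≃
      Γ(RefHull.homSh ((Scheme.Modules.pullback j).obj E) ((Scheme.Modules.pullback j).obj E'), ⊤) :=
    Equiv.ofBijective (fun φ => RefHull.ofHom φ ⊤)
      ⟨fun _ _ h => H10Coh.SheafHom.ofHom_injective h, H10Coh.SheafHom.ofHom_surjective⟩
  let e : Coh.HH X ((Scheme.Modules.pullback j).obj H) 0 ≃
      ((Scheme.Modules.pullback j).obj E ⟶ (Scheme.Modules.pullback j).obj E') :=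
    ((LeadBC.secTopEquiv _).toEquiv.trans b).trans a.symm
  rw [Nat.one_le_iff_ne_zero, ← Nat.pos_iff_ne_zero, Module.finrank_pos_iff, e.nontrivial_congr]
  refine ⟨fun h => exists_ne (0 : (Scheme.Modules.pullback j).obj E ⟶ (Scheme.Modules.pullback j).obj E'), ?_⟩
  rintro ⟨φ, hφ⟩
  exact ⟨φ, 0, hφ⟩

/-- A point of a one-dimensional irreducible Jacobson scheme is not cut out by the closed points. -/
theorem mem_of_isClosed_of_closedPoints {S : Scheme.{u}} [IrreducibleSpace S] [JacobsonSpace S]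
    (hS : topologicalKrullDim S = 1) {Z : Set S} (hZ : IsClosed Z) (y₀ : S) (hy₀ : IsClosed ({y₀} : Set S))
    (h : ∀ y : S, IsClosed ({y} : Set S) → y ≠ y₀ → y ∈ Z) : y₀ ∈ Z := by
  by_contra hn
  have h1 : Zᶜ ⊆ {y₀} := by
    intro y hy
    by_contra hne
    obtain ⟨z, ⟨hz1, hz2⟩, hz3⟩ := nonempty_inter_closedPoints (X := S) (Z := Zᶜ ∩ {y₀}ᶜ) ⟨y, hy, hne⟩
      (hZ.isOpen_compl.inter hy₀.isOpen_compl).isLocallyClosed
    exact hz1 (h z hz3 hz2)
  have h4 : (Set.univ : Set S) ⊆ {y₀} := by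
    rw [← (hZ.isOpen_compl.dense ⟨y₀, hn⟩).closure_eq]
    exact closure_minimal h1 hy₀
  haveI : Subsingleton S := ⟨fun a b => (h4 (Set.mem_univ a)).trans (h4 (Set.mem_univ b)).symm⟩
  haveI : Finite S := Finite.of_subsingleton
  have : topologicalKrullDim S ≤ 0 := topologicalKrullDim_zero_of_discreteTopology S
  rw [hS] at this
  exact absurd this (by norm_num)

/-- Separatedness. -/
theorem nonempty_iso [IsAlgClosed k] (hX : Curve.IsSmoothProperCurve k X (X ↘ Spec (CommRingCat.of k)))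
    [IsIntegral T] [LocallyOfFiniteType q] (hT : topologicalKrullDim T = 1)
    (t₀ : Spec (CommRingCat.of k) ⟶ T) (ht₀ : t₀ ≫ q = 𝟙 _) (r : ℕ)
    (E E' : (Pic13.prodK k X q).Modules) (hE : FlatMod.IsFinLocFreeOfRank r E) (hE' : FlatMod.IsFinLocFreeOfRank r E')
    (hiso : ∀ (t : Spec (CommRingCat.of k) ⟶ T) (ht : t ≫ q = 𝟙 _), t ≠ t₀ →
      Nonempty (Pic13.fibreMod k X q t ht E ≅ Pic13.fibreMod k X q t ht E'))
    (hst : H29RR.StableBundle k X (Pic13.fibreMod k X q t₀ ht₀ E) r)
    (hst' : H29RR.StableBundle k X (Pic13.fibreMod k X q t₀ ht₀ E') r) :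
    Nonempty (Pic13.fibreMod k X q t₀ ht₀ E ≅ Pic13.fibreMod k X q t₀ ht₀ E') := by
  obtain ⟨hp, hsm, hint, hdim⟩ := hX
  haveI := hsm
  haveI := hint
  haveI : IsLocallyNoetherian X := LocallyOfFiniteType.isLocallyNoetherian (X ↘ Spec (CommRingCat.of k))
  haveI : IsLocallyNoetherian T := LocallyOfFiniteType.isLocallyNoetherian q
  let f := pullback.snd (X ↘ Spec (CommRingCat.of k)) q
  haveI : IsLocallyNoetherian (Pic13.prodK k X q) := LocallyOfFiniteType.isLocallyNoetherian f
  haveI : JacobsonSpace T := LocallyOfFiniteType.jacobsonSpace q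
  haveI : Flat f := MorphismProperty.pullback_snd _ _ inferInstance
  haveI : LocallyOfFinitePresentation f := LocallyOfFinitePresentation.iff_locallyOfFiniteType.2 inferInstance
  have hE₀ := H29RR.locFree_of_rank hE
  have hE₀' := H29RR.locFree_of_rank hE'
  have hr₁ : ∀ (t : Spec (CommRingCat.of k) ⟶ T) (ht : t ≫ q = 𝟙 _),
      FlatMod.IsFinLocFreeOfRank r (Pic13.fibreMod k X q t ht E) ∧
        FlatMod.IsFinLocFreeOfRank r (Pic13.fibreMod k X q t ht E') := fun t ht =>
    ⟨H22Alg.KPullLam.finLocFreeOfRank_pullback _ hE, H22Alg.KPullLam.finLocFreeOfRank_pullback _ hE'⟩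
  obtain ⟨h₁, h₁'⟩ := hr₁ t₀ ht₀
  rcases Nat.eq_zero_or_pos r with rfl | hr
  · exact ⟨(H29RR.isZero_of_rank_zero h₁).iso (H29RR.isZero_of_rank_zero h₁')⟩
  let y₀ := t₀.base default
  have hy₀ : IsClosed ({y₀} : Set T) := by
    have h := (pointEquivClosedPoint q ⟨t₀, ht₀⟩).2
    rwa [show ((pointEquivClosedPoint q ⟨t₀, ht₀⟩ : closedPoints T) : T) = y₀ from
      congrArg t₀.base (Subsingleton.elim _ _)] at h
  have key : ∀ y : T, IsClosed ({y} : Set T) → y ≠ y₀ → ∃ (t : Spec (CommRingCat.of k) ⟶ T) (ht : t ≫ q = 𝟙 _),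
      t.base default = y ∧ t ≠ t₀ := fun y hy hne => by
    let p := (pointEquivClosedPoint q).symm ⟨y, hy⟩
    have hp : p.1.base default = y := by simp [p, pointEquivClosedPoint]
    exact ⟨p.1, p.2, hp, fun h => hne (by rw [← hp, h])⟩
  haveI : (RefHull.homSh E E').IsQuasicoherent :=
    H8Props.FinLocFree.isQCoh_of_isFinLocFree _ (H10Coh.SheafHom.isFinLocFree_homSh hE₀ hE₀')
  have hH := H10Coh.SheafHom.isFinLocFree_homSh hE₀ hE₀'
  have husc := LeadBC.GenBC.upperSemicontinuous_fiberRank f (RefHull.homSh E E')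
    (H8Props.FinLocFree.isFP_of_isFinLocFree _ hH) (H10Coh.SheafHom.isFlatOver_of_isFinLocFree f _ hH) 0
  have hmem : y₀ ∈ {y : T | 1 ≤ CohIII.fiberRank f (RefHull.homSh E E') 0 y} := by
    refine mem_of_isClosed_of_closedPoints hT (upperSemicontinuous_iff_isClosed_preimage.1 husc 1) y₀ hy₀
      fun y hy hne => ?_
    obtain ⟨t, ht, rfl, htne⟩ := key y hy hne
    obtain ⟨e⟩ := hiso t ht htne
    refine (fiberRank_hom_pos_iff k q hE₀ hE₀' t ht).2 ⟨e.hom, fun h0 => ?_⟩
    have hz : IsZero (Pic13.fibreMod k X q t ht E) := by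
      rw [IsZero.iff_id_eq_zero, ← e.hom_inv_id, h0, zero_comp]
    obtain ⟨-, -, hfr⟩ := H25Par.finrank_stalk (hr₁ t ht).1 (genericPoint X)
    haveI : Subsingleton ((Pic13.fibreMod k X q t ht E).presheaf.stalk (genericPoint X)) :=
      ModuleCat.subsingleton_of_isZero ((DerSch.stalkFunctor X (genericPoint X)).map_isZero hz)
    rw [Module.finrank_zero_of_subsingleton] at hfr
    omega
  obtain ⟨φ, hφ⟩ := (fiberRank_hom_pos_iff k q hE₀ hE₀' t₀ ht₀).1 hmem
  -- the degrees agree
  have hd : Curv2.deg k X (Pic13.fibreMod k X q t₀ ht₀ E) r = Curv2.deg k X (Pic13.fibreMod k X q t₀ ht₀ E') r := by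
    obtain ⟨y, hy, hne⟩ : ∃ y : T, IsClosed ({y} : Set T) ∧ y ≠ y₀ := by
      by_contra hc
      push Not at hc
      exact Set.notMem_empty y₀ (mem_of_isClosed_of_closedPoints hT isClosed_empty y₀ hy₀
        fun y hy hne => absurd (hc y hy) hne)
    obtain ⟨t, ht, -, htne⟩ := key y hy hne
    obtain ⟨e⟩ := hiso t ht htne
    have hc : ∀ M : (Pic13.prodK k X q).Modules, FlatMod.IsFinLocFree M →
        Curv2.euler k X (Pic13.fibreMod k X q t₀ ht₀ M) = Curv2.euler k X (Pic13.fibreMod k X q t ht M) := fun M hM =>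
      H12Pic.AlgEquivEuler.euler_fibreMod_eq k q M (H16Derived.KFlat.Stalk.isCoh_of_isFinLocFree hM)
        (H10Coh.SheafHom.isFlatOver_of_isFinLocFree f M hM) t₀ t ht₀ ht
    simp only [Curv2.deg, hc E hE₀, hc E' hE₀', H25Euler.euler_congr e]
  haveI := H29RR.isIso_of_stable (k := k) hdim.le h₁ h₁' (semistable_of_stable k hdim.le h₁ hst)
    (semistable_of_stable k hdim.le h₁' hst') (Or.inl ⟨hst, le_rfl⟩) (by rw [hd]) φ hφ
  exact ⟨asIso φ⟩

end Groth.Agent.H7Stable
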